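import Groth.Prelude.Def_DefoSh
import Groth.Agent.FiltSectLib.Stalks
import Mathlib

/-! Morphisms of deformations are isomorphisms. -/

set_option autoImplicit false

universe u

open CategoryTheory CategoryTheory.Limits AlgebraicGeometry TensorProduct

namespace DefoIsoLib

theorem bijective_of_reduction {A : Type u} [CommRing A] {I : Ideal A} (hI : IsNilpotent I)
    {N N' E : Type u} [AddCommGroup N] [Module A N] [AddCommGroup N'] [Module A N'] [AddCommGroup E]
    [Module.Flat A N'] (f : N →ₗ[A] N') (π : N →+ E) (π' : N' →+ E) (hπ : ∀ v, π' (f v) = π v)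
    (hsurj : Function.Surjective π) (hker : ∀ v, π v = 0 → v ∈ I • (⊤ : Submodule A N))
    (hker' : ∀ v, π' v = 0 → v ∈ I • (⊤ : Submodule A N')) : Function.Bijective f := by
  obtain ⟨n, hn⟩ := hI
  have nak : ∀ {M : Type u} [AddCommGroup M] [Module A M] (P : Submodule A M),
      (⊤ : Submodule A M) ≤ P ⊔ I • ⊤ → P = ⊤ := by
    intro M _ _ P h
    have key : ∀ i : ℕ, (⊤ : Submodule A M) ≤ P ⊔ I ^ i • ⊤ := by
      intro i
      induction i with
      | zero => simp
      | succ i ih =>
        refine ih.trans (sup_le le_sup_left ?_)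
        refine (Submodule.smul_mono le_rfl h).trans ?_
        rw [Submodule.smul_sup, ← Submodule.mul_smul, ← pow_succ]
        exact sup_le_sup_right Submodule.smul_le_right _
    have := key n
    rw [hn] at this
    exact top_unique (by simpa using this)
  have hfs : Function.Surjective f := by
    rw [← LinearMap.range_eq_top]
    refine nak _ fun v _ => ?_
    obtain ⟨w, hw⟩ := hsurj (π' v)
    rw [show v = f w + (v - f w) by abel]
    exact Submodule.add_mem_sup ⟨w, rfl⟩ (hker' _ (by rw [map_sub, hπ, hw, sub_self]))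
  refine ⟨LinearMap.ker_eq_bot.1 ?_, hfs⟩
  set K := LinearMap.ker f
  have hK : ∀ v : K, (v : N) ∈ I • (⊤ : Submodule A N) := fun v =>
    hker _ (by rw [← hπ, show f v = 0 from v.2, map_zero])
  have inj := LinearMap.lTensor_injective_of_exact_of_flat f hfs K.subtype K.subtype_injective
    (LinearMap.exact_subtype_ker_map f) (A ⧸ I)
  have hz : ∀ v : K, (Ideal.Quotient.mk I 1) ⊗ₜ[A] v = 0 := fun v => by
    apply inj
    rw [map_zero, LinearMap.lTensor_tmul]
    apply (TensorProduct.quotTensorEquivQuotSMul N I).injective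
    rw [map_zero, TensorProduct.quotTensorEquivQuotSMul_mk_tmul, one_smul]
    exact (Submodule.Quotient.mk_eq_zero _).2 (hK v)
  have htop : (⊥ : Submodule A K) = ⊤ := nak ⊥ (fun v _ => by
    rw [bot_sup_eq]
    have := congrArg (TensorProduct.quotTensorEquivQuotSMul K I) (hz v)
    rw [map_zero, TensorProduct.quotTensorEquivQuotSMul_mk_tmul, one_smul] at this
    exact (Submodule.Quotient.mk_eq_zero _).1 this)
  rw [Submodule.eq_bot_iff]
  intro v hv
  have : (⟨v, hv⟩ : K) ∈ (⊥ : Submodule A K) := htop ▸ Submodule.mem_top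
  exact congrArg Subtype.val ((Submodule.mem_bot A).1 this)

open DefoSh in
theorem isIso_of_hom {k : Type u} [Field k] {X : Scheme.{u}} [X.Over (Spec (CommRingCat.of k))]
    {E : X.Modules} {A : ArtFun.Art k k} (D D' : DefoSh.Defo E A) (φ : D.sheaf ⟶ D'.sheaf)
    (hact : ∀ a : A, D.act a ≫ φ = φ ≫ D'.act a) (hπ : φ ≫ D'.π = D.π) : IsIso φ := by
  refine FiltSectLib.isIso_of_stalks φ fun x => ?_
  letI := DefoSh.stalkModule D.sheaf D.act.toRingHom x
  letI := DefoSh.stalkModule D'.sheaf D'.act.toRingHom x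
  haveI : Module.Flat A ↑(D'.sheaf.presheaf.stalk x) := D'.flat x
  let f : ↑(D.sheaf.presheaf.stalk x) →ₗ[A] ↑(D'.sheaf.presheaf.stalk x) :=
    { toFun := RefHull.stalkMapₗ φ x
      map_add' := map_add _
      map_smul' := fun a v => by
        change RefHull.stalkMapₗ φ x (RefHull.stalkMapₗ (D.act a) x v) =
          RefHull.stalkMapₗ (D'.act a) x (RefHull.stalkMapₗ φ x v)
        rw [← stalkMapₗ_comp_apply, ← stalkMapₗ_comp_apply, hact] }
  have hb : Function.Bijective f :=
    bijective_of_reduction ((IsArtinianRing.isNilpotent_jacobson_bot (R := A)).imp fun n h => by rwa [IsLocalRing.jacobson_eq_maximalIdeal ⊥ bot_ne_top] at h) f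
      (RefHull.stalkMapₗ D.π x).toAddMonoidHom (RefHull.stalkMapₗ D'.π x).toAddMonoidHom
      (fun v => by
        change RefHull.stalkMapₗ D'.π x (RefHull.stalkMapₗ φ x v) = RefHull.stalkMapₗ D.π x v
        rw [← stalkMapₗ_comp_apply, hπ])
      (D.surj x) (D.ker_le x) (D'.ker_le x)
  rw [ConcreteCategory.isIso_iff_bijective]
  have : ∀ v : ↑(D.sheaf.presheaf.stalk x), (DerSch.stalkFunctor X x).map φ v = f v := fun v => by
    obtain ⟨W, hxW, s, rfl⟩ := TopCat.Presheaf.germ_exist D.sheaf.presheaf v
    exact (DerSch.stalkFunctor_map_germ x φ W hxW s).trans (RefHull.stalkMapₗ_germ _ _ _ _).symm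
  rw [show ((DerSch.stalkFunctor X x).map φ : _ → _) = f from funext this]; exact hb

end DefoIsoLib
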